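import Mathlib
import Groth.Agent.Lib.Helper7.StalkLim.Cone
import Groth.Agent.Lib.Helper7.MaxPt

set_option linter.style.haveILetI false
set_option linter.unusedVariables false
set_option linter.unusedSectionVars false
set_option autoImplicit false
set_option backward.isDefEq.respectTransparency.types false
set_option backward.isDefEq.respectTransparency false
set_option synthInstance.maxHeartbeats 400000
set_option maxHeartbeats 1600000

universe u
open CategoryTheory CategoryTheory.Limits AlgebraicGeometry TopologicalSpace Opposite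

/-! helper7: a property of schemes over a quasi-compact quasi-separated base that is insensitive to
thickenings, passes to cofiltered limits with affine transition maps, and is inherited by a
quasi-compact open or by its closed complement, holds for the spectrum of some field over the
base. -/

namespace Groth.Agent.Helper7.FieldPt

open Groth.Agent.Helper7

variable {T : Scheme.{u}}

theorem over_hom_ext_of_mono {A B : Over T} [Mono B.hom] (f g : A ⟶ B) : f = g := by
  apply Over.OverMorphism.ext
  rw [← cancel_mono B.hom, Over.w f, Over.w g]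

theorem isClosedImmersion_inclusion {I J : T.IdealSheafData} (h : I ≤ J) :
    IsClosedImmersion (Scheme.IdealSheafData.inclusion h) := by
  haveI : IsClosedImmersion (Scheme.IdealSheafData.inclusion h ≫ I.subschemeι) := by
    rw [Scheme.IdealSheafData.inclusion_subschemeι]
    infer_instance
  exact IsClosedImmersion.of_comp_isClosedImmersion _ I.subschemeι

section Chain

variable (c : Set T.IdealSheafData)

/-- the diagram of the closed subschemes cut out by the members of a set of ideals. -/
noncomputable def diag : (↥c)ᵒᵖ ⥤ Over T where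
  obj a := Over.mk a.unop.1.subschemeι
  map {a b} f := Over.homMk
    (Scheme.IdealSheafData.inclusion (show b.unop.1 ≤ a.unop.1 from leOfHom f.unop))
    (Scheme.IdealSheafData.inclusion_subschemeι _)
  map_id a := by
    haveI : Mono (Over.mk a.unop.1.subschemeι).hom := inferInstanceAs (Mono a.unop.1.subschemeι)
    exact over_hom_ext_of_mono _ _
  map_comp {a b d} f g := by
    haveI : Mono (Over.mk d.unop.1.subschemeι).hom := inferInstanceAs (Mono d.unop.1.subschemeι)
    exact over_hom_ext_of_mono _ _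

instance mono_diag_obj_hom (a : (↥c)ᵒᵖ) : Mono ((diag c).obj a).hom :=
  inferInstanceAs (Mono a.unop.1.subschemeι)

/-- the cone with vertex the closed subscheme cut out by the supremum. -/
noncomputable def cone : Cone (diag c) where
  pt := Over.mk (sSup c).subschemeι
  π :=
    { app := fun a => Over.homMk
        (Scheme.IdealSheafData.inclusion (le_sSup a.unop.2))
        (Scheme.IdealSheafData.inclusion_subschemeι _)
      naturality := fun a b f => over_hom_ext_of_mono _ _ }

theorem ker_le_of_cone (s : Cone (diag c)) : sSup c ≤ s.pt.hom.ker := by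
  apply sSup_le
  intro I hI
  have h1 : (s.π.app (op ⟨I, hI⟩)).left ≫ I.subschemeι = s.pt.hom := Over.w (s.π.app (op ⟨I, hI⟩))
  have h2 : I.subschemeι.ker ≤ ((s.π.app (op ⟨I, hI⟩)).left ≫ I.subschemeι).ker :=
    Scheme.Hom.le_ker_comp _ _
  rw [Scheme.IdealSheafData.ker_subschemeι, h1] at h2
  exact h2

/-- the closed subscheme cut out by the supremum is the limit. -/
noncomputable def isLimitCone : IsLimit (cone c) where
  lift s := Over.homMk (IsClosedImmersion.lift (sSup c).subschemeι s.pt.hom (by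
      rw [Scheme.IdealSheafData.ker_subschemeι]
      exact ker_le_of_cone c s))
    (IsClosedImmersion.lift_fac _ _ _)
  fac s a := over_hom_ext_of_mono _ _
  uniq s m hm := by
    haveI : Mono (cone c).pt.hom := inferInstanceAs (Mono (sSup c).subschemeι)
    exact over_hom_ext_of_mono _ _

theorem sSup_ne_top [CompactSpace T] (hchain : IsChain (· ≤ ·) c) (hne : c.Nonempty)
    (hc : ∀ I ∈ c, I ≠ ⊤) : sSup c ≠ ⊤ := by
  intro htop
  haveI : Nonempty ↥c := hne.to_subtype
  have hdir : Directed (· ⊇ ·) (fun a : ↥c => (a.1.support : Set T)) := by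
    intro a b
    rcases hchain.total a.2 b.2 with h | h
    · exact ⟨b, SetLike.coe_subset_coe.mpr (Scheme.IdealSheafData.support_antitone h), subset_rfl⟩
    · exact ⟨a, subset_rfl, SetLike.coe_subset_coe.mpr (Scheme.IdealSheafData.support_antitone h)⟩
  have hn : ∀ a : ↥c, ((a.1.support : Set T)).Nonempty := by
    intro a
    rw [Set.nonempty_iff_ne_empty]
    intro h0
    apply hc a.1 a.2
    rw [← Scheme.IdealSheafData.support_eq_bot_iff]
    exact SetLike.coe_injective (h0.trans Closeds.coe_bot.symm)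
  obtain ⟨x, hx⟩ := IsCompact.nonempty_iInter_of_directed_nonempty_isCompact_isClosed _ hdir hn
    (fun a => a.1.support.isClosed.isCompact) (fun a => a.1.support.isClosed)
  have hsupp : (sSup c).support = ⨅ a : ↥c, a.1.support := by
    rw [sSup_eq_iSup', Scheme.IdealSheafData.support_iSup]
  have hmem : x ∈ ((sSup c).support : Set T) := by
    rw [hsupp, Closeds.coe_iInf]
    exact hx
  rw [htop, Scheme.IdealSheafData.support_top, Closeds.coe_bot] at hmem
  exact hmem

end Chain

section Main

variable (P : ∀ ⦃T' : Scheme.{u}⦄, (T' ⟶ T) → Prop)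

/-- insensitivity to thickenings. -/
def Hyp1 : Prop :=
  ∀ ⦃T' T'' : Scheme.{u}⦄ (a : T' ⟶ T) (t : T'' ⟶ T') [IsClosedImmersion t] [Surjective t]
    [CompactSpace T'] [QuasiSeparatedSpace T'] [CompactSpace T''] [QuasiSeparatedSpace T''],
    P (t ≫ a) ↔ P a

/-- passage to cofiltered limits with affine transition maps. -/
def Hyp2 : Prop :=
  ∀ ⦃I : Type u⦄ [SmallCategory I] [IsCofiltered I] (D : I ⥤ Over T) (c : Limits.Cone D)
    (_ : Limits.IsLimit c),
    (∀ (i j : I) (m : i ⟶ j), IsAffineHom (D.map m).left) →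
    (∀ i, CompactSpace (D.obj i).left ∧ QuasiSeparatedSpace (D.obj i).left) →
    (∀ i, P (D.obj i).hom) → P c.pt.hom

/-- inheritance by a quasi-compact open or by its closed complement. -/
def Hyp3 : Prop :=
  ∀ ⦃T' Z V : Scheme.{u}⦄ (a : T' ⟶ T) [CompactSpace T'] [QuasiSeparatedSpace T'] (i : Z ⟶ T')
    [IsClosedImmersion i] (j : V ⟶ T') [IsOpenImmersion j] [CompactSpace V],
    Set.range j = (Set.range i)ᶜ → P a → P (j ≫ a) ∨ P (i ≫ a)

theorem qcqs_of_closedImm [CompactSpace T] [QuasiSeparatedSpace T] {Z : Scheme.{u}} (i : Z ⟶ T)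
    [IsClosedImmersion i] : CompactSpace Z ∧ QuasiSeparatedSpace Z :=
  ⟨QuasiCompact.compactSpace_of_compactSpace i, quasiSeparatedSpace_of_quasiSeparated i⟩

theorem hcongr [CompactSpace T] [QuasiSeparatedSpace T] (h1 : Hyp1 P) {Z₁ Z₂ : Scheme.{u}}
    (i₁ : Z₁ ⟶ T) (i₂ : Z₂ ⟶ T) [IsClosedImmersion i₁] [IsClosedImmersion i₂]
    (hk : i₁.ker = i₂.ker) : P i₁ ↔ P i₂ := by
  haveI := (qcqs_of_closedImm i₁).1
  haveI := (qcqs_of_closedImm i₁).2
  haveI := (qcqs_of_closedImm i₂).1
  haveI := (qcqs_of_closedImm i₂).2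
  have ht : IsClosedImmersion.lift i₂ i₁ hk.ge ≫ i₂ = i₁ := IsClosedImmersion.lift_fac _ _ _
  haveI : IsIso (IsClosedImmersion.lift i₂ i₁ hk.ge) :=
    IsClosedImmersion.isIso_of_ker_eq i₁ i₂ _ ht hk
  have := h1 i₂ (IsClosedImmersion.lift i₂ i₁ hk.ge)
  rw [ht] at this
  exact this

theorem exists_maximal [CompactSpace T] [QuasiSeparatedSpace T] [Nonempty T] (h1 : Hyp1 P)
    (h2 : Hyp2 P) (hT : P (𝟙 T)) :
    ∃ J : T.IdealSheafData,
      Maximal (· ∈ {I : T.IdealSheafData | I ≠ ⊤ ∧ P I.subschemeι}) J := by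
  have hbot : (⊥ : T.IdealSheafData) ∈ {I : T.IdealSheafData | I ≠ ⊤ ∧ P I.subschemeι} := by
    refine ⟨?_, ?_⟩
    · intro h
      have h' := congrArg Scheme.IdealSheafData.support h
      rw [Scheme.IdealSheafData.support_bot, Scheme.IdealSheafData.support_top] at h'
      obtain ⟨x⟩ := ‹Nonempty T›
      have hx : x ∈ ((⊤ : Closeds T) : Set T) := trivial
      rw [h', Closeds.coe_bot] at hx
      exact hx
    · refine (hcongr P h1 (𝟙 T) (⊥ : T.IdealSheafData).subschemeι ?_).mp hT
      rw [Scheme.IdealSheafData.ker_subschemeι]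
      exact Scheme.Hom.ker_eq_bot_of_isIso (𝟙 T)
  suffices hzorn : ∀ c ⊆ {I : T.IdealSheafData | I ≠ ⊤ ∧ P I.subschemeι}, IsChain (· ≤ ·) c →
      ∀ y ∈ c, ∃ ub ∈ {I : T.IdealSheafData | I ≠ ⊤ ∧ P I.subschemeι}, ∀ z ∈ c, z ≤ ub by
    obtain ⟨J, -, hJ⟩ := zorn_le_nonempty₀ _ hzorn ⊥ hbot
    exact ⟨J, hJ⟩
  intro c hcs hchain y hy
  refine ⟨sSup c, ⟨sSup_ne_top c hchain ⟨y, hy⟩ (fun I hI => (hcs hI).1), ?_⟩,
    fun z hz => le_sSup hz⟩
  haveI : Nonempty ↥c := ⟨⟨y, hy⟩⟩
  haveI : IsDirected ↥c (· ≤ ·) := ⟨fun a b => by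
    rcases hchain.total a.2 b.2 with h | h
    · exact ⟨b, h, le_rfl⟩
    · exact ⟨a, le_rfl, h⟩⟩
  refine h2 (diag c) (cone c) (isLimitCone c) ?_ ?_ ?_
  · intro i j m
    haveI := isClosedImmersion_inclusion (show j.unop.1 ≤ i.unop.1 from leOfHom m.unop)
    exact inferInstanceAs (IsAffineHom
      (Scheme.IdealSheafData.inclusion (show j.unop.1 ≤ i.unop.1 from leOfHom m.unop)))
  · intro i
    exact qcqs_of_closedImm i.unop.1.subschemeι
  · intro i
    exact (hcs i.unop.2).2

theorem surjective_of_maximal [CompactSpace T] [QuasiSeparatedSpace T] (h1 : Hyp1 P)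
    (J : T.IdealSheafData)
    (hJ : Maximal (· ∈ {I : T.IdealSheafData | I ≠ ⊤ ∧ P I.subschemeι}) J)
    {Z' : Scheme.{u}} (i : Z' ⟶ J.subscheme) [IsClosedImmersion i] [Nonempty Z']
    (hP : P (i ≫ J.subschemeι)) : Function.Surjective i := by
  have hle : J ≤ (i ≫ J.subschemeι).ker := by
    have := Scheme.Hom.le_ker_comp i J.subschemeι
    rwa [Scheme.IdealSheafData.ker_subschemeι] at this
  have hmem : (i ≫ J.subschemeι).ker ∈ {I : T.IdealSheafData | I ≠ ⊤ ∧ P I.subschemeι} := by
    refine ⟨?_, ?_⟩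
    · intro h
      rw [Scheme.Hom.ker_eq_top_iff_isEmpty] at h
      exact h.false (Classical.arbitrary Z')
    · refine (hcongr P h1 (i ≫ J.subschemeι) (i ≫ J.subschemeι).ker.subschemeι ?_).mp hP
      rw [Scheme.IdealSheafData.ker_subschemeι]
  have hge : (i ≫ J.subschemeι).ker ≤ J := hJ.2 hmem hle
  have hge' : (i ≫ J.subschemeι).ker ≤ J.subschemeι.ker := by
    rw [Scheme.IdealSheafData.ker_subschemeι]
    exact hge
  have hfac : IsClosedImmersion.lift (i ≫ J.subschemeι) J.subschemeι hge' ≫ i = 𝟙 _ := by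
    rw [← cancel_mono J.subschemeι, Category.assoc, IsClosedImmersion.lift_fac, Category.id_comp]
  intro z
  refine ⟨IsClosedImmersion.lift (i ≫ J.subschemeι) J.subschemeι hge' z, ?_⟩
  rw [← Scheme.Hom.comp_apply, hfac]
  rfl

theorem P_nb [CompactSpace T] [QuasiSeparatedSpace T] (h1 : Hyp1 P) (h3 : Hyp3 P)
    (J : T.IdealSheafData)
    (hJ : Maximal (· ∈ {I : T.IdealSheafData | I ≠ ⊤ ∧ P I.subschemeι}) J)
    (η : J.subscheme) (U : StalkLim.Nb J.subscheme η) : P (U.1.ι ≫ J.subschemeι) := by
  haveI := (qcqs_of_closedImm J.subschemeι).1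
  haveI := (qcqs_of_closedImm J.subschemeι).2
  let C : Closeds J.subscheme := ⟨(U.1 : Set J.subscheme)ᶜ, U.1.isOpen.isClosed_compl⟩
  haveI : IsAffine U.1.toScheme := U.2.1
  have hsupp : Set.range (Scheme.IdealSheafData.vanishingIdeal C).subschemeι =
      (U.1 : Set J.subscheme)ᶜ := by
    rw [Scheme.IdealSheafData.range_subschemeι, Scheme.IdealSheafData.coe_support_vanishingIdeal]
    rfl
  have hrange : Set.range U.1.ι =
      (Set.range (Scheme.IdealSheafData.vanishingIdeal C).subschemeι)ᶜ := by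
    rw [hsupp, Scheme.Opens.range_ι, compl_compl]
  rcases h3 J.subschemeι (Scheme.IdealSheafData.vanishingIdeal C).subschemeι U.1.ι hrange
    hJ.1.2 with h | h
  · exact h
  · by_cases hne : Nonempty (Scheme.IdealSheafData.vanishingIdeal C).subscheme
    · exfalso
      have hsurj := surjective_of_maximal P h1 J hJ
        (Scheme.IdealSheafData.vanishingIdeal C).subschemeι h
      obtain ⟨z, hz⟩ := hsurj η
      have hmem : η ∈ Set.range (Scheme.IdealSheafData.vanishingIdeal C).subschemeι := ⟨z, hz⟩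
      rw [hsupp] at hmem
      exact hmem U.2.2
    · rw [not_nonempty_iff] at hne
      have hempty : Set.range (Scheme.IdealSheafData.vanishingIdeal C).subschemeι = ∅ :=
        Set.range_eq_empty _
      have huniv : Set.range U.1.ι = Set.univ := by rw [hrange, hempty, Set.compl_empty]
      haveI : Surjective U.1.ι := ⟨Set.range_eq_univ.mp huniv⟩
      haveI : IsIso U.1.ι :=
        (isIso_iff_isOpenImmersion_and_surjective _).mpr ⟨inferInstance, inferInstance⟩
      exact (h1 J.subschemeι U.1.ι).mpr hJ.1.2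

section Stalk

variable {Z : Scheme.{u}} (a : Z ⟶ T) (η : Z)

/-- the affine open neighbourhoods of a point, as schemes over the base. -/
noncomputable def nbOver : StalkLim.Nb Z η ⥤ Over T where
  obj U := Over.mk (U.1.ι ≫ a)
  map {U V} f := Over.homMk ((StalkLim.nbDiag Z η).map f) (by
    show Z.homOfLE (Subtype.coe_le_coe.mpr (leOfHom f)) ≫ V.1.ι ≫ a = U.1.ι ≫ a
    rw [Scheme.homOfLE_ι_assoc])
  map_id U := by
    apply Over.OverMorphism.ext
    exact (StalkLim.nbDiag Z η).map_id U
  map_comp f g := by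
    apply Over.OverMorphism.ext
    exact (StalkLim.nbDiag Z η).map_comp f g

/-- the cone with vertex the local scheme at the point. -/
noncomputable def nbOverCone : Cone (nbOver a η) where
  pt := Over.mk (show (StalkLim.nbCone Z η).pt ⟶ T from Z.fromSpecStalk η ≫ a)
  π :=
    { app := fun U => Over.homMk ((StalkLim.nbCone Z η).π.app U) (by
        show (StalkLim.nbCone Z η).π.app U ≫ U.1.ι ≫ a = Z.fromSpecStalk η ≫ a
        rw [← Category.assoc, StalkLim.nbCone_π_ι])
      naturality := fun U V f => by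
        apply Over.OverMorphism.ext
        simp
        exact ((StalkLim.nbCone Z η).w f).symm }

/-- forgetting the base of a cone. -/
noncomputable def toCone (s : Cone (nbOver a η)) : Cone (StalkLim.nbDiag Z η) where
  pt := s.pt.left
  π :=
    { app := fun U => (s.π.app U).left
      naturality := fun U V f => by
        simp
        exact (congrArg CommaMorphism.left (s.w f)).symm }

/-- the local scheme is the limit of the affine open neighbourhoods, over the base. -/
noncomputable def isLimitNbOverCone : IsLimit (nbOverCone a η) where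
  lift s := Over.homMk ((StalkLim.isLimit_nbCone Z η).some.lift (toCone a η s)) (by
    obtain ⟨U⟩ := (inferInstance : Nonempty (StalkLim.Nb Z η))
    have h1 : (StalkLim.isLimit_nbCone Z η).some.lift (toCone a η s) ≫
        (StalkLim.nbCone Z η).π.app U = (s.π.app U).left :=
      (StalkLim.isLimit_nbCone Z η).some.fac (toCone a η s) U
    have h2 : (s.π.app U).left ≫ (U.1.ι ≫ a) = s.pt.hom := Over.w (s.π.app U)
    show (StalkLim.isLimit_nbCone Z η).some.lift (toCone a η s) ≫ (Z.fromSpecStalk η ≫ a) =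
      s.pt.hom
    rw [← h2, ← h1, ← StalkLim.nbCone_π_ι Z η U]
    simp only [Category.assoc])
  fac s U := by
    apply Over.OverMorphism.ext
    exact (StalkLim.isLimit_nbCone Z η).some.fac (toCone a η s) U
  uniq s m hm := by
    apply Over.OverMorphism.ext
    apply (StalkLim.isLimit_nbCone Z η).some.uniq (toCone a η s) m.left
    intro U
    exact congrArg CommaMorphism.left (hm U)

theorem field_point (h1 : Hyp1 P) (h2 : Hyp2 P) (hη : ∀ y : Z, y ⤳ η → y = η)
    (hU : ∀ U : StalkLim.Nb Z η, P (U.1.ι ≫ a)) :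
    ∃ (K : Type u) (_ : Field K) (t : Spec (CommRingCat.of K) ⟶ T), P t := by
  have hstalk : P (Z.fromSpecStalk η ≫ a) :=
    h2 (nbOver a η) (nbOverCone a η) (isLimitNbOverCone a η)
      (fun i j m => inferInstanceAs (IsAffineHom ((StalkLim.nbDiag Z η).map m)))
      (fun i => by
        haveI : IsAffine i.1.toScheme := i.2.1
        exact ⟨inferInstanceAs (CompactSpace i.1.toScheme),
          inferInstanceAs (QuasiSeparatedSpace i.1.toScheme)⟩)
      (fun i => hU i)
  have hsub : ∀ w : Spec (Z.presheaf.stalk η), Z.fromSpecStalk η w = η := fun w => by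
    apply hη
    have hw : Z.fromSpecStalk η w ∈ Set.range (Z.fromSpecStalk η) := ⟨w, rfl⟩
    rw [Scheme.range_fromSpecStalk] at hw
    exact hw
  haveI : Subsingleton (Spec (Z.presheaf.stalk η)) := ⟨fun x x' =>
    (Z.fromSpecStalk η).isEmbedding.injective ((hsub x).trans (hsub x').symm)⟩
  haveI : IsClosedImmersion
      (Spec.map (CommRingCat.ofHom (IsLocalRing.residue (Z.presheaf.stalk η)))) :=
    IsClosedImmersion.spec_of_surjective _ IsLocalRing.residue_surjective
  haveI : Nonempty (Spec (CommRingCat.of (IsLocalRing.ResidueField (Z.presheaf.stalk η)))) :=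
    inferInstanceAs (Nonempty (PrimeSpectrum (IsLocalRing.ResidueField (Z.presheaf.stalk η))))
  haveI : Surjective (Spec.map (CommRingCat.ofHom (IsLocalRing.residue (Z.presheaf.stalk η)))) :=
    ⟨fun x => ⟨Classical.arbitrary _, Subsingleton.elim _ _⟩⟩
  exact ⟨IsLocalRing.ResidueField (Z.presheaf.stalk η), inferInstance,
    Spec.map (CommRingCat.ofHom (IsLocalRing.residue (Z.presheaf.stalk η))) ≫
      Z.fromSpecStalk η ≫ a,
    (h1 (Z.fromSpecStalk η ≫ a)
      (Spec.map (CommRingCat.ofHom (IsLocalRing.residue (Z.presheaf.stalk η))))).mpr hstalk⟩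

end Stalk

theorem main (T : Scheme.{u}) [CompactSpace T] [QuasiSeparatedSpace T] [Nonempty T]
    (P : ∀ ⦃T' : Scheme.{u}⦄, (T' ⟶ T) → Prop) (h1 : Hyp1 P) (h2 : Hyp2 P) (h3 : Hyp3 P)
    (hT : P (𝟙 T)) :
    ∃ (K : Type u) (_ : Field K) (t : Spec (CommRingCat.of K) ⟶ T), P t := by
  obtain ⟨J, hJ⟩ := exists_maximal P h1 h2 hT
  haveI := (qcqs_of_closedImm J.subschemeι).1
  haveI := (qcqs_of_closedImm J.subschemeι).2
  have hne : Nonempty J.subscheme := by
    by_contra hemp
    rw [not_nonempty_iff] at hemp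
    apply hJ.1.1
    exact (Scheme.IdealSheafData.ker_subschemeι J).symm.trans
      ((Scheme.Hom.ker_eq_top_iff_isEmpty _).mpr hemp)
  obtain ⟨z⟩ := hne
  obtain ⟨η, -, hη⟩ := MaxPt.exists_maximal_generization z
  exact field_point P J.subschemeι η h1 h2 hη (fun U => P_nb P h1 h3 J hJ η U)

end Main

end Groth.Agent.Helper7.FieldPt
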